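import Mathlib.CategoryTheory.Action.Concrete
import Mathlib.CategoryTheory.Galois.Topology
import Mathlib.GroupTheory.GroupAction.Basic
import Mathlib.GroupTheory.QuotientGroup.Basic
import Mathlib.GroupTheory.Index

set_option autoImplicit false

open CategoryTheory Action.FintypeCat

namespace Groth.Agent.GSetAut

universe u v w

variable {G : Type u} [Group G] {C : Type w} [Category.{v} C] (J : C ⥤ Action FintypeCat.{u} G)

/-- the forgetful functor through `J` -/
abbrev fib : C ⥤ FintypeCat.{u} := J ⋙ Action.forget FintypeCat.{u} G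

/-- the automorphism of a finite `G`-set given by `g` -/
def actIso (X : Action FintypeCat.{u} G) (g : G) : X.V ≅ X.V :=
  FintypeCat.equivEquivIso (MulAction.toPerm g)

/-- `g ↦` action of `g` on all objects -/
def iota : G →* Aut (fib J) where
  toFun g := NatIso.ofComponents (fun c => actIso (J.obj c) g) fun {c d} f => ((J.map f).comm g).symm
  map_one' := by
    ext c x
    exact one_smul G (show (J.obj c).V from x)
  map_mul' g h := by
    ext c x
    exact mul_smul g h (show (J.obj c).V from x)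

lemma iota_apply (g : G) (c : C) (x : (J.obj c).V) : (iota J g).hom.app c x = g • x := rfl

lemma smul_nat {X Y : Action FintypeCat.{u} G} (f : X ⟶ Y) (g : G) (x : X.V) :
    f.hom (g • x) = g • f.hom x :=
  ConcreteCategory.congr_hom (f.comm g) x

/-- orbit map out of `G ⧸ U` -/
noncomputable def orbit (U : Subgroup G) [Fintype (G ⧸ U)] (X : Action FintypeCat.{u} G) (x : X.V)
    (h : ∀ u ∈ U, u • x = x) : (G ⧸ₐ U) ⟶ X where
  hom := FintypeCat.homMk (Quotient.lift (fun g : G => g • x) fun a b hab => by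
    have := h _ (QuotientGroup.leftRel_apply.1 hab)
    rw [mul_smul, inv_smul_eq_iff] at this
    exact this.symm)
  comm g := by
    ext (y : G ⧸ U)
    induction y using Quotient.inductionOn with | h a => exact mul_smul g a x

theorem key [J.Full] (U : Subgroup G) [Fintype (G ⧸ U)] (q : C) (e : J.obj q ≅ (G ⧸ₐ U))
    (σ : Aut (fib J)) :
    ∃ g : G, ∀ (c : C) (x : (J.obj c).V), (∀ u ∈ U, u • x = x) → σ.hom.app c x = g • x := by
  obtain ⟨g, hg⟩ := QuotientGroup.mk_surjective
    (s := U) (e.hom.hom (σ.hom.app q (e.inv.hom ((1 : G) : G ⧸ U))))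
  refine ⟨g, fun c x hx => ?_⟩
  let f : q ⟶ c := J.preimage (e.hom ≫ orbit U (J.obj c) x hx)
  have hf : ∀ z, (J.map f).hom z = (orbit U (J.obj c) x hx).hom (e.hom.hom z) := fun z => by
    simp [f, J.map_preimage]
  have h1 : (J.map f).hom (e.inv.hom ((1 : G) : G ⧸ U)) = x := by
    rw [hf]
    have : e.hom.hom (e.inv.hom ((1 : G) : G ⧸ U)) = ((1 : G) : G ⧸ U) :=
      ConcreteCategory.congr_hom (congrArg Action.Hom.hom e.inv_hom_id) ((1 : G) : G ⧸ U)
    rw [this]
    exact one_smul G x
  have h2 := ConcreteCategory.congr_hom (σ.hom.naturality f) (e.inv.hom ((1 : G) : G ⧸ U))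
  have h3 : σ.hom.app c ((J.map f).hom (e.inv.hom ((1 : G) : G ⧸ U))) =
      (J.map f).hom (σ.hom.app q (e.inv.hom ((1 : G) : G ⧸ U))) := h2
  rw [h1, hf, ← hg] at h3
  exact h3

/-- the kernel of the action on a finite `G`-set -/
def kern (X : Action FintypeCat.{u} G) : Subgroup G := (MulAction.toPermHom G X.V).ker

lemma mem_kern {X : Action FintypeCat.{u} G} {g : G} : g ∈ kern X ↔ ∀ x : X.V, g • x = x :=
  Equiv.Perm.ext_iff

instance (X : Action FintypeCat.{u} G) : (kern X).Normal := MonoidHom.normal_ker _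

lemma kern_finiteIndex (X : Action FintypeCat.{u} G) : (kern X).FiniteIndex :=
  Subgroup.finiteIndex_ker _

open PreGaloisCategory in
/-- every neighbourhood of `σ` contains every `τ` agreeing with it on suitable finitely many
objects -/
lemma nhds_aux (σ : Aut (fib J)) (W : Set (Aut (fib J))) (hW : IsOpen W) (hσ : σ ∈ W) :
    ∃ I : Finset C, ∀ τ : Aut (fib J), (∀ c ∈ I, ∀ x, τ.hom.app c x = σ.hom.app c x) → τ ∈ W := by
  obtain ⟨s, hs, rfl⟩ := hW
  obtain ⟨I, u, hu, hsub⟩ := isOpen_pi_iff.1 hs _ hσ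
  refine ⟨I, fun τ hτ => hsub fun c hc => ?_⟩
  have : autEmbedding (fib J) τ c = autEmbedding (fib J) σ c := by
    ext x
    exact hτ c hc x
  show autEmbedding (fib J) τ c ∈ u c
  rw [this]
  exact (hu c hc).2

open PreGaloisCategory in
theorem dense_iota [J.Full] (good : Subgroup G → Prop)
    (hgood : ∀ I : Finset C, good (⨅ c ∈ I, kern (J.obj c)))
    (hq : ∀ U : Subgroup G, good U → ∀ [Fintype (G ⧸ U)],
      ∃ q : C, Nonempty (J.obj q ≅ (G ⧸ₐ U))) :
    DenseRange (iota J) := by
  classical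
  rw [DenseRange, dense_iff_inter_open]
  rintro W hW ⟨σ, hσ⟩
  obtain ⟨I, hI⟩ := nhds_aux J σ W hW hσ
  let U : Subgroup G := ⨅ c ∈ I, kern (J.obj c)
  haveI : ∀ c, (kern (J.obj c)).FiniteIndex := fun c => kern_finiteIndex _
  haveI : U.FiniteIndex := Subgroup.finiteIndex_iInf' _ fun c _ => kern_finiteIndex (J.obj c)
  haveI : Fintype (G ⧸ U) := Fintype.ofFinite _
  obtain ⟨q, ⟨e⟩⟩ := hq U (hgood I)
  obtain ⟨g, hg⟩ := key J U q e σ
  refine ⟨iota J g, hI _ fun c hc x => ?_, g, rfl⟩
  exact (hg c x fun u hu => mem_kern.1 ((iInf₂_le c hc : U ≤ kern (J.obj c)) hu) x).symm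

end Groth.Agent.GSetAut
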