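import Groth.Agent.GSetAut.Basic
import Mathlib.Topology.Algebra.Category.ProfiniteGrp.Completion
import Mathlib.CategoryTheory.Galois.Examples
import Mathlib.Topology.Algebra.ContinuousMonoidHom

set_option autoImplicit false

open CategoryTheory Action.FintypeCat PreGaloisCategory

namespace Groth.Agent.GSetAut

universe u

variable (G : Type u) [Group G]

theorem compl_main :
    ∃ φ : (ProfiniteGrp.ProfiniteCompletion.completion (GrpCat.of G)) ≃ₜ* Aut (Action.forget FintypeCat.{u} G),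
      ∀ (g : G) (X : Action FintypeCat.{u} G) (x : X.V),
        (φ (ProfiniteGrp.ProfiniteCompletion.etaFn (GrpCat.of G) g)).hom.app X x = (X.ρ g).hom x := by
  classical
  let J : Action FintypeCat.{u} G ⥤ Action FintypeCat.{u} G := 𝟭 _
  let Cmp := ProfiniteGrp.ProfiniteCompletion.completion (GrpCat.of G)
  letI : ∀ N : FiniteIndexNormalSubgroup G, Fintype (G ⧸ N.toSubgroup) := fun N => Fintype.ofFinite _
  let q : FiniteIndexNormalSubgroup G → Action FintypeCat.{u} G := fun N => G ⧸ₐ N.toSubgroup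
  let pt : Aut (fib J) → ∀ N : FiniteIndexNormalSubgroup G, G ⧸ N.toSubgroup := fun σ N =>
    σ.hom.app (q N) ((1 : G) : G ⧸ N.toSubgroup)
  have fixq : ∀ (N M : FiniteIndexNormalSubgroup G), N.toSubgroup ≤ M.toSubgroup →
      ∀ (x : G ⧸ M.toSubgroup), ∀ u ∈ N.toSubgroup, u • x = x := by
    intro N M h x u hu
    induction x using QuotientGroup.induction_on with
    | _ a =>
      show ((u * a : G) : G ⧸ M.toSubgroup) = (a : G ⧸ M.toSubgroup)
      rw [QuotientGroup.eq]
      simpa [mul_assoc] using M.toSubgroup.inv_mem (Subgroup.Normal.conj_mem M.isNormal' _ (h hu) a⁻¹)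
  have hkey : ∀ (σ : Aut (fib J)) (N : FiniteIndexNormalSubgroup G), ∃ g : G,
      ∀ (M : FiniteIndexNormalSubgroup G), N.toSubgroup ≤ M.toSubgroup →
        ∀ x : G ⧸ M.toSubgroup, σ.hom.app (q M) x = g • x := fun σ N => by
    obtain ⟨g, hg⟩ := key J N.toSubgroup (q N) (Iso.refl _) σ
    exact ⟨g, fun M h x => hg (q M) x (fixq N M h x)⟩
  let Ψ₀ : Aut (fib J) → Cmp := fun σ => ⟨fun N => pt σ N, fun {N M} f => by
    obtain ⟨g, hg⟩ := hkey σ N
    show QuotientGroup.map N.toSubgroup M.toSubgroup (MonoidHom.id G) f.le (pt σ N) = pt σ M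
    show QuotientGroup.map N.toSubgroup M.toSubgroup (MonoidHom.id G) f.le
      (σ.hom.app (q N) ((1 : G) : G ⧸ N.toSubgroup)) = σ.hom.app (q M) ((1 : G) : G ⧸ M.toSubgroup)
    rw [hg N le_rfl, hg M f.le]
    rfl⟩
  let Ψ : Aut (fib J) →* Cmp := MonoidHom.mk' Ψ₀ fun σ τ => Subtype.ext (funext fun N => by
    obtain ⟨g, hg⟩ := hkey σ N
    obtain ⟨h, hh⟩ := hkey τ N
    show pt (σ * τ) N = pt σ N * pt τ N
    have h1 : pt σ N = g • ((1 : G) : G ⧸ N.toSubgroup) := hg N le_rfl _
    have h2 : pt τ N = h • ((1 : G) : G ⧸ N.toSubgroup) := hh N le_rfl _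
    have h3 : pt (σ * τ) N = g • (h • ((1 : G) : G ⧸ N.toSubgroup)) :=
      (hg N le_rfl (pt τ N)).trans (congrArg (g • ·) h2)
    rw [h1, h2, h3]
    show ((g * (h * 1) : G) : G ⧸ N.toSubgroup) = ((g * 1 * (h * 1) : G) : G ⧸ N.toSubgroup)
    rw [mul_one g])
  have hcont : Continuous Ψ := by
    refine continuous_induced_rng.2 (continuous_pi fun N => ?_)
    show Continuous ((fun s : Aut ((fib J).obj (q N)) =>
      ((s.hom ((1 : G) : G ⧸ N.toSubgroup)) :
        (ProfiniteGrp.ProfiniteCompletion.diagram (GrpCat.of G)).obj N)) ∘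
      fun σ => autEmbedding (fib J) σ (q N))
    exact continuous_of_discreteTopology.comp ((continuous_apply (q N)).comp continuous_induced_dom)
  have heta : ∀ g, Ψ (iota J g) = ProfiniteGrp.ProfiniteCompletion.etaFn (GrpCat.of G) g := by
    intro g
    refine Subtype.ext (funext fun N => ?_)
    show ((g * 1 : G) : G ⧸ N.toSubgroup) = (g : G ⧸ N.toSubgroup)
    rw [mul_one]
  have hinj : Function.Injective Ψ := by
    intro σ τ h
    ext X (x : X.V)
    haveI := kern_finiteIndex X
    let N : FiniteIndexNormalSubgroup G := .ofSubgroup (kern X)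
    obtain ⟨g, hg⟩ := key J N.toSubgroup (q N) (Iso.refl _) σ
    obtain ⟨k, hk⟩ := key J N.toSubgroup (q N) (Iso.refl _) τ
    show σ.hom.app X x = τ.hom.app X x
    rw [hg X x fun u hu => mem_kern.1 hu x, hk X x fun u hu => mem_kern.1 hu x]
    have h1 : pt σ N = pt τ N := congrArg (fun z : Cmp => z.val N) h
    have hg1 := hg (q N) ((1 : G) : G ⧸ N.toSubgroup) (fixq N N le_rfl _)
    have hk1 := hk (q N) ((1 : G) : G ⧸ N.toSubgroup) (fixq N N le_rfl _)
    have h2 : ((g * 1 : G) : G ⧸ N.toSubgroup) = ((k * 1 : G) : G ⧸ N.toSubgroup) :=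
      hg1.symm.trans (h1.trans hk1)
    rw [mul_one, mul_one, QuotientGroup.eq] at h2
    have h3 := mem_kern.1 (show g⁻¹ * k ∈ kern X from h2) x
    rw [mul_smul, inv_smul_eq_iff] at h3
    exact h3.symm
  have hsurj : Function.Surjective Ψ := by
    intro y
    exact (ProfiniteGrp.ProfiniteCompletion.denseRange (GrpCat.of G)).induction_on
      (p := fun y => ∃ σ, Ψ σ = y) y (isCompact_range hcont).isClosed fun g => ⟨iota J g, heta g⟩
  have hh : IsHomeomorph Ψ := isHomeomorph_iff_continuous_bijective.2 ⟨hcont, hinj, hsurj⟩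
  let E : Aut (fib J) ≃ₜ* Cmp :=
    { MulEquiv.ofBijective Ψ ⟨hinj, hsurj⟩ with
      continuous_toFun := hcont
      continuous_invFun := (hh.homeomorph Ψ).continuous_invFun.congr fun y => by
        apply hinj
        rw [show (Ψ ((hh.homeomorph Ψ).invFun y)) = y from (hh.homeomorph Ψ).apply_symm_apply y]
        exact ((MulEquiv.ofBijective Ψ ⟨hinj, hsurj⟩).apply_symm_apply y).symm }
  refine ⟨E.symm, fun g X x => ?_⟩
  have hE : E.symm (ProfiniteGrp.ProfiniteCompletion.etaFn (GrpCat.of G) g) = iota J g := by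
    rw [← heta]
    exact E.symm_apply_apply _
  change (E.symm _).hom.app X x = _
  rw [hE]
  rfl

end Groth.Agent.GSetAut
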