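import Groth.Agent.GSetAut.Basic
import Mathlib.CategoryTheory.Action.Continuous
import Mathlib.Topology.Category.FinTopCat
import Mathlib.Topology.Algebra.Group.Basic
import Mathlib.Topology.Algebra.OpenSubgroup
import Mathlib.Topology.LocallyConstant.Basic

set_option autoImplicit false

open CategoryTheory Action.FintypeCat
open scoped FintypeCatDiscrete

namespace Groth.Agent.GSetAut

universe u

variable (G : Type u) [Group G] [TopologicalSpace G] [IsTopologicalGroup G]

/-- continuous finite `G`-sets -/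
abbrev JC : ContAction FintypeCat.{u} G ⥤ Action FintypeCat.{u} G := ObjectProperty.ι _

variable {G}

lemma isOpen_fix (X : ContAction FintypeCat.{u} G) (x y : X.obj.V) :
    IsOpen {g : G | g • x = y} := by
  have hc : Continuous fun p : G × X.obj.V => p.1 • p.2 := X.property.continuous_smul
  exact (isOpen_discrete ({y} : Set X.obj.V)).preimage (hc.comp (by fun_prop : Continuous fun g : G => (g, x)))

lemma isOpen_kern (X : ContAction FintypeCat.{u} G) : IsOpen (kern X.obj : Set G) := by
  have : (kern X.obj : Set G) = ⋂ x : X.obj.V, {g : G | g • x = x} := by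
    ext g
    simp [mem_kern]
  rw [this]
  exact isOpen_iInter_of_finite fun x => isOpen_fix X x x

lemma isContinuous_of_loc (X : Action FintypeCat.{u} G)
    (h : ∀ x : X.V, IsLocallyConstant fun g : G => g • x) : Action.IsContinuous X := by
  refine ⟨?_⟩
  show Continuous fun p : G × X.V => p.1 • p.2
  exact continuous_prod_of_discrete_right.2 fun x => (h x).continuous

lemma isContinuous_of_open (U : Subgroup G) [U.Normal] [Fintype (G ⧸ U)] (hU : IsOpen (U : Set G)) :
    Action.IsContinuous (G ⧸ₐ U) := by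
  refine isContinuous_of_loc _ fun x => ?_
  refine IsLocallyConstant.iff_exists_open _ |>.2 fun g => ?_
  refine ⟨(fun h => g⁻¹ * h) ⁻¹' U, hU.preimage (continuous_const.mul continuous_id), by simp, ?_⟩
  intro h (hh : g⁻¹ * h ∈ U)
  obtain ⟨a, rfl⟩ := QuotientGroup.mk_surjective (x : G ⧸ U)
  show ((h * a : G) : G ⧸ U) = ((g * a : G) : G ⧸ U)
  rw [QuotientGroup.eq, ← U.inv_mem_iff]
  simpa [mul_assoc] using Subgroup.Normal.conj_mem inferInstance _ hh a⁻¹

open PreGaloisCategory in
theorem cont_main :
    ∃ ι : G →* Aut (forget₂ (ContAction FintypeCat.{u} G) FintypeCat.{u}),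
      Continuous ι ∧
      (∀ (g : G) (X : ContAction FintypeCat.{u} G) (x : X.obj.V), (ι g).hom.app X x = (X.obj.ρ g).hom x) ∧
      DenseRange ι ∧
      ∀ (Q : Type u) [Group Q] [Finite Q] [TopologicalSpace Q] [DiscreteTopology Q] (π : G →* Q),
        Continuous π → ∃! ψ : Aut (forget₂ (ContAction FintypeCat.{u} G) FintypeCat.{u}) →* Q,
          Continuous ψ ∧ ψ.comp ι = π := by
  classical
  haveI : (JC G).Full := inferInstance
  let ι : G →* Aut (fib (JC G)) := iota (JC G)
  have hcont : Continuous ι := by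
    refine continuous_induced_rng.2 (continuous_pi fun X => ?_)
    show Continuous ((fun σ : Aut (fib (JC G)) => autEmbedding (fib (JC G)) σ X) ∘ ι)
    let f : G →* Aut ((fib (JC G)).obj X) :=
      ((Pi.evalMonoidHom _ X).comp (autEmbedding (fib (JC G)))).comp ι
    show Continuous f
    refine continuous_of_continuousAt_one f ?_
    refine (continuousAt_def.2 fun A hA => ?_)
    refine Filter.mem_of_superset ((isOpen_kern X).mem_nhds (one_mem _)) fun g hg => ?_
    have : f g = f 1 := by
      ext x
      show g • (show X.obj.V from x) = (1 : G) • (show X.obj.V from x)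
      rw [mem_kern.1 hg, one_smul]
    show f g ∈ A
    rw [this]
    exact mem_of_mem_nhds hA
  have hd : DenseRange ι := by
    refine dense_iota (JC G) (fun U => U.Normal ∧ IsOpen (U : Set G)) (fun I => ⟨?_, ?_⟩) ?_
    · exact Subgroup.normal_iInf_normal fun c => Subgroup.normal_iInf_normal fun _ => inferInstance
    · simp only [Subgroup.coe_iInf]
      exact isOpen_biInter_finset fun c _ => isOpen_kern c
    · rintro U ⟨hn, ho⟩ _
      exact ⟨⟨G ⧸ₐ U, isContinuous_of_open U ho⟩, ⟨Iso.refl _⟩⟩
  refine ⟨ι, hcont, fun g X x => rfl, hd, ?_⟩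
  intro Q _ _ _ _ π hπ
  haveI : Fintype Q := Fintype.ofFinite Q
  letI : MulAction G Q := MulAction.compHom Q π
  let XQ : ContAction FintypeCat.{u} G :=
    ⟨Action.FintypeCat.ofMulAction G (FintypeCat.of Q), isContinuous_of_loc _ fun x => by
      have h1 : IsLocallyConstant π := (IsLocallyConstant.iff_continuous π).2 hπ
      exact h1.comp fun q : Q => q * (show Q from x)⟩
  let U : Subgroup G := π.ker
  have hUo : IsOpen (U : Set G) := (isOpen_discrete ({1} : Set Q)).preimage hπ
  haveI : U.FiniteIndex := Subgroup.finiteIndex_ker π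
  haveI : Fintype (G ⧸ U) := Fintype.ofFinite _
  have hkey : ∀ σ : Aut (fib (JC G)), ∃ g : G, ∀ x : Q, σ.hom.app XQ x = π g * x := fun σ => by
    obtain ⟨g, hg⟩ := key (JC G) U ⟨G ⧸ₐ U, isContinuous_of_open U hUo⟩ (Iso.refl _) σ
    refine ⟨g, fun x => hg XQ x fun u hu => ?_⟩
    show π u * x = x
    rw [MonoidHom.mem_ker.1 hu, one_mul]
  choose g hg using hkey
  let ψ : Aut (fib (JC G)) →* Q := MonoidHom.mk' (fun σ => π (g σ)) fun σ τ => by
    have h1 : (σ * τ).hom.app XQ (1 : Q) = σ.hom.app XQ (τ.hom.app XQ (1 : Q)) := rfl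
    rw [hg, hg, hg, mul_one, mul_one] at h1
    exact h1
  have hψ : ∀ σ, ψ σ = σ.hom.app XQ (1 : Q) := fun σ => by rw [hg, mul_one]; rfl
  refine ⟨ψ, ⟨?_, MonoidHom.ext fun a => ?_⟩, fun ψ' hψ' => ?_⟩
  · have : (ψ : Aut (fib (JC G)) → Q) =
        (fun s : Aut ((fib (JC G)).obj XQ) => (s.hom (1 : Q) : Q)) ∘
          fun σ => autEmbedding (fib (JC G)) σ XQ := funext hψ
    show Continuous ψ
    rw [this]
    exact continuous_of_discreteTopology.comp ((continuous_apply XQ).comp continuous_induced_dom)
  · show ψ (ι a) = π a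
    rw [hψ]
    show π a * 1 = π a
    rw [mul_one]
  · refine MonoidHom.ext fun σ => ?_
    have hc : Continuous ψ := by
      have : (ψ : Aut (fib (JC G)) → Q) =
          (fun s : Aut ((fib (JC G)).obj XQ) => (s.hom (1 : Q) : Q)) ∘
            fun σ => autEmbedding (fib (JC G)) σ XQ := funext hψ
      rw [this]
      exact continuous_of_discreteTopology.comp ((continuous_apply XQ).comp continuous_induced_dom)
    refine congrFun (hd.equalizer hψ'.1 hc (funext fun a => ?_)) σ
    show ψ' (ι a) = ψ (ι a)
    rw [hψ]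
    show ψ' (ι a) = π a * 1
    rw [mul_one]
    exact DFunLike.congr_fun hψ'.2 a

end Groth.Agent.GSetAut
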